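import Mathlib

set_option autoImplicit false

/-!
The cokernel of an injective endomorphism of a finite module of dimension ≤ 1 over a Noetherian
ring has dimension ≤ 0, hence finite length.
-/

namespace CycAlgLib

universe u v

variable {R : Type u} [CommRing R] {M : Type v} [AddCommGroup M] [Module R M]

/-- If `θ` is an injective endomorphism of a finite module `M` and `p` is a prime minimal in the
support of `M`, then `p` is not in the support of `M ⧸ θ M`. -/
theorem not_mem_support_quot_range [Module.Finite R M] (θ : Module.End R M)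
    (hθ : Function.Injective θ) (p : PrimeSpectrum R) (hp : p ∈ Module.support R M)
    (hmin : ∀ q ∈ Module.support R M, q ≤ p → q = p) :
    p ∉ Module.support R (M ⧸ LinearMap.range θ) := by
  let B := Algebra.adjoin R {θ}
  letI : CommRing B := Algebra.adjoinCommRingOfComm R (by simp)
  haveI : Algebra.IsIntegral R B := by
    constructor
    intro x
    exact (isIntegral_algHom_iff B.val Subtype.val_injective).1 (Algebra.IsIntegral.isIntegral x.1)
  let t : B := ⟨θ, Algebra.self_mem_adjoin_singleton R θ⟩
  let I : Ideal B := Ideal.span {t}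
  have hker : ∀ r : R, algebraMap R B r = 0 ↔ r ∈ Module.annihilator R M := by
    intro r
    rw [Module.mem_annihilator]
    constructor
    · intro h x
      have := congrArg (fun b : B => b.1 x) h
      simpa using this
    · intro h
      exact Subtype.ext (LinearMap.ext fun x => by simpa using h x)
  have hI : I.comap (algebraMap R B) ≤ Module.annihilator R (M ⧸ LinearMap.range θ) := by
    intro r hr
    obtain ⟨b, hb⟩ := Ideal.mem_span_singleton'.1 (Ideal.mem_comap.1 hr)
    rw [Module.mem_annihilator]
    intro x
    induction x using Submodule.Quotient.induction_on with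
    | _ x =>
      rw [← Submodule.Quotient.mk_smul, Submodule.Quotient.mk_eq_zero]
      refine ⟨b.1 x, ?_⟩
      rw [mul_comm] at hb
      have := congrArg (fun b : B => b.1 x) hb
      simpa [t] using this
  rw [Module.mem_support_iff_of_finite]
  intro hQ
  rw [Module.mem_support_iff_of_finite] at hp
  obtain ⟨Q, hQI, hQp, hQc⟩ := Ideal.exists_ideal_over_prime_of_isIntegral p.asIdeal I (hI.trans hQ)
  haveI := hQp
  have hQmin : Q ∈ minimalPrimes B := by
    refine ⟨⟨hQp, bot_le⟩, fun q ⟨hq, _⟩ hle => le_of_eq ?_⟩
    haveI := hq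
    have hc : q.comap (algebraMap R B) = p.asIdeal := by
      have hle' : q.comap (algebraMap R B) ≤ p.asIdeal := hQc ▸ Ideal.comap_mono hle
      have hmem : (⟨q.comap (algebraMap R B), inferInstance⟩ : PrimeSpectrum R) ∈ Module.support R M := by
        rw [Module.mem_support_iff_of_finite]
        intro r hr
        rw [Ideal.mem_comap, (hker r).2 hr]
        exact q.zero_mem
      exact congrArg PrimeSpectrum.asIdeal (hmin _ hmem hle')
    by_contra hne
    have hlt : q < Q := lt_of_le_of_ne hle (Ne.symm hne)
    obtain ⟨x, hxQ, hxq⟩ := SetLike.exists_of_lt hlt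
    have := Ideal.comap_lt_comap_of_integral_mem_sdiff (R := R) hle ⟨hxQ, hxq⟩
      (Algebra.IsIntegral.isIntegral x)
    rw [hc, hQc] at this
    exact lt_irrefl _ this
  refine Set.disjoint_left.1 (Ideal.disjoint_nonZeroDivisors_of_mem_minimalPrimes hQmin)
    (hQI (Ideal.mem_span_singleton_self t)) ?_
  rw [SetLike.mem_coe, mem_nonZeroDivisors_iff]
  refine ⟨fun b hb => ?_, fun b hb => ?_⟩
  · refine Subtype.ext (LinearMap.ext fun x => hθ ?_)
    have := congrArg (fun b : B => b.1 x) hb
    simpa [t] using this
  · rw [mul_comm] at hb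
    refine Subtype.ext (LinearMap.ext fun x => hθ ?_)
    have := congrArg (fun b : B => b.1 x) hb
    simpa [t] using this

/-- If `M` is finite of dimension `≤ 1` and `θ` is injective, then `M ⧸ θ M` has dimension `≤ 0`. -/
theorem supportDim_quot_range_nonpos [Module.Finite R M] (hdim : Module.supportDim R M ≤ 1)
    (θ : Module.End R M) (hθ : Function.Injective θ) :
    Module.supportDim R (M ⧸ LinearMap.range θ) ≤ 0 := by
  rw [Module.supportDim, Order.krullDim_nonpos_iff_forall_isMax]
  rintro ⟨p, hp⟩ ⟨q, hq⟩ hpq
  by_contra hne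
  have hlt : p < q := lt_of_le_not_ge hpq hne
  have hsub := Module.support_subset_of_surjective _ (Submodule.mkQ_surjective (LinearMap.range θ))
  refine not_mem_support_quot_range θ hθ p (hsub hp) (fun r hr hrp => ?_) hp
  by_contra hrne
  have h1 : (⟨r, hr⟩ : Module.support R M) < ⟨p, hsub hp⟩ := lt_of_le_of_ne hrp (fun e => hrne (congrArg Subtype.val e))
  have h1' : (⟨p, hsub hp⟩ : Module.support R M) < ⟨q, hsub hq⟩ := hlt
  let s : LTSeries (Module.support R M) :=
    ((RelSeries.singleton _ (⟨q, hsub hq⟩ : Module.support R M)).cons ⟨p, hsub hp⟩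
      (show (⟨p, hsub hp⟩ : Module.support R M) < ⟨q, hsub hq⟩ from h1')).cons ⟨r, hr⟩
      (by rw [RelSeries.head_cons]; exact h1)
  have h2 : ((2 : ℕ) : WithBot ℕ∞) ≤ 1 := le_trans (Order.LTSeries.length_le_krullDim s) hdim
  have : (2 : ℕ) ≤ 1 := by exact_mod_cast h2
  omega

/-- A finite module of dimension `≤ 0` over a Noetherian ring has finite length. -/
theorem length_lt_top_of_supportDim_nonpos [IsNoetherianRing R] [Module.Finite R M]
    (h : Module.supportDim R M ≤ 0) : Module.length R M < ⊤ := by
  rw [Module.supportDim_eq_ringKrullDim_quotient_annihilator] at h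
  haveI : Ring.KrullDimLE 0 (R ⧸ Module.annihilator R M) := (Order.krullDimLE_iff 0 _).2 h
  haveI : IsArtinianRing (R ⧸ Module.annihilator R M) :=
    IsNoetherianRing.isArtinianRing_of_krullDimLE_zero
  have htor : Module.IsTorsionBySet R M (Module.annihilator R M) :=
    Module.isTorsionBySet_annihilator R M
  letI := htor.module
  haveI : IsScalarTower R (R ⧸ Module.annihilator R M) M := htor.isScalarTower
  haveI : Module.Finite (R ⧸ Module.annihilator R M) M := Module.Finite.of_restrictScalars_finite R _ _
  haveI : IsArtinian (R ⧸ Module.annihilator R M) M := inferInstance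
  haveI : IsArtinian R M :=
    isArtinian_of_surjective_algebraMap (R := R ⧸ Module.annihilator R M) (S := R) Ideal.Quotient.mk_surjective
  rw [lt_top_iff_ne_top, Module.length_ne_top_iff, isFiniteLength_iff_isNoetherian_isArtinian]
  exact ⟨inferInstance, inferInstance⟩

end CycAlgLib
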